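import Groth.Agent.GrLib8.Bootstrap.FormalFibre
import Groth.Agent.GrLib8.Cutoff.Finite
import Groth.Agent.FormalFib6.Cplt
import Groth.Agent.LC.CdBase
import Groth.Agent.LC.TopDim
import Groth.Agent.LC.Connected
import Groth.Prelude.Def_Formal2

/-!
# Depths along adic completions of local rings
-/

set_option autoImplicit false
set_option linter.style.haveILetI false

universe u

open IsLocalRing CategoryTheory
open scoped TensorProduct

namespace Groth.Agent.GrLib8.Bootstrap

theorem depth_tensor {R B : Type u} [CommRing R] [CommRing B] [IsNoetherianRing R] [IsNoetherianRing B]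
    [Algebra R B] [Module.Flat R B] (M : Type u) [AddCommGroup M] [Module R M] [Module.Finite R M]
    (P : Ideal B) [P.IsPrime] :
    LocCoh.depth (Localization.AtPrime P) (LocalizedModule P.primeCompl (B ⊗[R] M)) =
      LocCoh.depth (Localization.AtPrime (P.comap (algebraMap R B)))
        (LocalizedModule (P.comap (algebraMap R B)).primeCompl M) + FlatLoc6.fibDepth R P B := by
  have hB : (⟨P, ‹_›⟩ : PrimeSpectrum B) ∈ Module.support B B := by
    rw [Module.mem_support_iff]
    exact (LC.selfLoc P.primeCompl).toEquiv.nontrivial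
  by_cases hs : (⟨P.comap (algebraMap R B), inferInstance⟩ : PrimeSpectrum R) ∈ Module.support R M
  · exact (FlatLoc6.formulas_atPrime B M (P.comap (algebraMap R B)) P rfl hB hs).1
  · haveI := Module.notMem_support_iff.1 hs
    haveI : Subsingleton (LocalizedModule P.primeCompl (B ⊗[R] M)) := by
      have h : (⟨P, ‹_›⟩ : PrimeSpectrum B) ∉ Module.support B (B ⊗[R] M) := fun hc =>
        hs ((FlatLoc6.mem_support_tensor_iff (A := R) (B := B) (N := B) (M := M) ⟨P, ‹_›⟩).1 hc).2
      exact Module.notMem_support_iff.1 h
    rw [LocCoh.depth, LocCoh.idealDepth, if_pos (Subsingleton.elim _ _), LocCoh.depth, LocCoh.idealDepth,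
      if_pos (Subsingleton.elim _ _), top_add]

theorem depth_loc_congr {B : Type u} [CommRing B] [IsNoetherianRing B] {M N : Type u} [AddCommGroup M]
    [Module B M] [AddCommGroup N] [Module B N] (e : M ≃ₗ[B] N) (P : Ideal B) [P.IsPrime] :
    LocCoh.depth (Localization.AtPrime P) (LocalizedModule P.primeCompl M) =
      LocCoh.depth (Localization.AtPrime P) (LocalizedModule P.primeCompl N) :=
  Hensel.depth_congr (IsLocalizedModule.mapEquiv P.primeCompl (LocalizedModule.mkLinearMap _ M)
    (LocalizedModule.mkLinearMap _ N) (Localization.AtPrime P) e)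

variable (R : Type u) [CommRing R] [IsLocalRing R] [IsNoetherianRing R] (J : Ideal R)

theorem flat_completion : Module.Flat R (AdicCompletion J R) := AdicCompletion.flat_of_isNoetherian J

theorem depth_completion (M : Type u) [AddCommGroup M] [Module R M] [Module.Finite R M]
    (P : Ideal (AdicCompletion J R)) [P.IsPrime] :
    LocCoh.depth (Localization.AtPrime P) (LocalizedModule P.primeCompl (AdicCompletion J M)) =
      LocCoh.depth (Localization.AtPrime (P.comap (algebraMap R (AdicCompletion J R))))
        (LocalizedModule (P.comap (algebraMap R (AdicCompletion J R))).primeCompl M) +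
          FlatLoc6.fibDepth R P (AdicCompletion J R) := by
  haveI := FormalFib6.isNoetherianRing_adicCompletion R J
  haveI := flat_completion R J
  rw [← depth_tensor M P]
  exact (depth_loc_congr (AdicCompletion.ofTensorProductEquivOfFiniteNoetherian J M) P).symm

/-- The map from an adic completion to the completion at the maximal ideal. -/
theorem exists_toCpl (hJ : J ≤ maximalIdeal R) :
    ∃ _ : Algebra (AdicCompletion J R) (EGA4.Cpl R), IsScalarTower R (AdicCompletion J R) (EGA4.Cpl R) ∧
      Module.FaithfullyFlat (AdicCompletion J R) (EGA4.Cpl R) := by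
  have fg : J.FG := IsNoetherian.noetherian _
  have fgm : (maximalIdeal R).FG := IsNoetherian.noetherian _
  let mm := maximalIdeal R
  let C := EGA4.Cpl R
  haveI := FlatLoc6.isLocalRing_cpl R
  haveI := FlatLoc6.isNoetherianRing_cpl R
  haveI := FlatLoc6.faithfullyFlat_cpl R
  haveI := FormalFib6.isNoetherianRing_adicCompletion R J
  have hcompat : ∀ {i n : ℕ} (hle : i ≤ n), (Ideal.Quotient.factorPow mm hle).comp
      ((Ideal.Quotient.factor (Ideal.pow_right_mono hJ n)).comp (AdicCompletion.evalₐ J n).toRingHom) =
      (Ideal.Quotient.factor (Ideal.pow_right_mono hJ i)).comp (AdicCompletion.evalₐ J i).toRingHom := by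
    intro i n hle
    refine RingHom.ext fun x => ?_
    obtain ⟨g, rfl⟩ := AdicCompletion.mk_surjective J R x
    simp only [RingHom.comp_apply, AlgHom.toRingHom_eq_coe, RingHom.coe_coe, AdicCompletion.evalₐ_mk,
      Ideal.Quotient.factor_mk]
    show Ideal.Quotient.mk _ (g n) = Ideal.Quotient.mk _ (g i)
    rw [Ideal.Quotient.eq]
    refine Ideal.pow_right_mono hJ i ?_
    simpa using neg_mem (SModEq.sub_mem.1 (g.property hle))
  let F : AdicCompletion J R →+* C := AdicCompletion.liftRingHom mm _ hcompat
  letI : Algebra (AdicCompletion J R) C := F.toAlgebra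
  haveI : IsScalarTower R (AdicCompletion J R) C := IsScalarTower.of_algebraMap_eq fun a => by
    refine AdicCompletion.ext_evalₐ fun n => ?_
    rw [AlgHom.commutes]
    show _ = AdicCompletion.evalₐ mm n (F (algebraMap R (AdicCompletion J R) a))
    rw [AdicCompletion.evalₐ_liftRingHom, RingHom.comp_apply, AlgHom.toRingHom_eq_coe, RingHom.coe_coe,
      AlgHom.commutes]
    rfl
  have hmC : mm.map (algebraMap R C) ≤ maximalIdeal C := by
    rw [AdicCompletion.maximalIdeal_eq_map_of_fg fgm]
  haveI : Module.Flat (AdicCompletion J R) C := by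
    refine FlatLoc6.flat_of_dense J (fun n r => ?_) ((Ideal.map_mono hJ).trans (hmC.trans (maximalIdeal_le_jacobson _)))
    obtain ⟨a, ha⟩ := Submodule.mkQ_surjective _ (AdicCompletion.eval J R n r)
    refine ⟨a, ?_⟩
    rw [← LocalCrit.smul_top_eq_map, AdicCompletion.pow_smul_top_eq_ker_eval fg, LinearMap.mem_ker, map_sub,
      ← ha, sub_eq_zero]
    exact (AdicCompletion.eval_of _ _ n a).symm
  have hmM : (mm.map (algebraMap R (AdicCompletion J R))).IsMaximal :=
    AdicCompletion.isMaximal_map_of_le J mm hJ fg
  haveI := AdicCompletion.isAdicComplete_self J fg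
  haveI : Nontrivial (R ⧸ J) :=
    Ideal.Quotient.nontrivial_iff.2 (ne_top_of_le_ne_top (maximalIdeal.isMaximal R).ne_top hJ)
  haveI : IsLocalRing (R ⧸ J) := .of_surjective' (Ideal.Quotient.mk J) Ideal.Quotient.mk_surjective
  let e := (Ideal.quotEquivOfEq (AdicCompletion.ker_evalOneₐ_eq_map J fg).symm).trans
    (RingHom.quotientKerEquivOfSurjective (f := (AdicCompletion.evalOneₐ J).toRingHom)
      (AdicCompletion.evalOneₐ_surjective J))
  haveI : IsLocalRing (AdicCompletion J R ⧸ J.map (algebraMap R (AdicCompletion J R))) := e.symm.isLocalRing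
  haveI : IsLocalRing (AdicCompletion J R) := by
    refine IsLocalRing.of_unique_max_ideal ⟨_, hmM, fun m hm => ?_⟩
    let π := Ideal.Quotient.mk (J.map (algebraMap R (AdicCompletion J R)))
    have hs : Function.Surjective π := Ideal.Quotient.mk_surjective
    have hc : ∀ x : Ideal (AdicCompletion J R), J.map (algebraMap R (AdicCompletion J R)) ≤ x →
        (x.map π).comap π = x := fun x hx => by
      rw [Ideal.comap_map_of_surjective _ hs, ← RingHom.ker_eq_comap_bot, Ideal.mk_ker, sup_eq_left]
      exact hx
    have hJm : J.map (algebraMap R (AdicCompletion J R)) ≤ m :=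
      (IsAdicComplete.le_jacobson_bot _).trans (sInf_le ⟨bot_le, hm⟩)
    haveI := hm
    have h1 : (m.map π).IsMaximal := Ideal.IsMaximal.map_of_surjective_of_ker_le hs
      (by rw [Ideal.mk_ker]; exact hJm)
    haveI := hmM
    have h2 : ((mm.map (algebraMap R (AdicCompletion J R))).map π).IsMaximal :=
      Ideal.IsMaximal.map_of_surjective_of_ker_le hs (by rw [Ideal.mk_ker]; exact Ideal.map_mono hJ)
    rw [← hc m hJm, (IsLocalRing.eq_maximalIdeal h1).trans (IsLocalRing.eq_maximalIdeal h2).symm,
      hc _ (Ideal.map_mono hJ)]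
  haveI : IsLocalHom (algebraMap (AdicCompletion J R) C) := by
    refine ((local_hom_TFAE (algebraMap (AdicCompletion J R) C)).out 0 2).mpr ?_
    rw [← IsLocalRing.eq_maximalIdeal hmM, Ideal.map_map, ← IsScalarTower.algebraMap_eq]
    exact hmC
  exact ⟨inferInstance, inferInstance, Module.FaithfullyFlat.of_flat_of_isLocalHom⟩

end Groth.Agent.GrLib8.Bootstrap
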