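import Groth.Agent.KFlatLib.Ring.DualizingFibreRows
import Groth.Agent.LC.Liaison
import Groth.Agent.FlatLoc6.Cpl
import Mathlib.RingTheory.AdicCompletion.LocalRing

/-!
# Formal fibres of rings with dualizing complexes
-/

set_option autoImplicit false
set_option linter.style.haveILetI false
set_option backward.isDefEq.respectTransparency false

universe u

open CategoryTheory CategoryTheory.Limits Pretriangulated MonoidalCategory IsLocalRing

open scoped TensorProduct

attribute [local instance] HasDerivedCategory.standard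

namespace Groth.Agent.GrLib8.Bootstrap

open Groth.Agent.KFlatLib

section Local

variable {A B : Type u} [CommRing A] [CommRing B] [Algebra A B] [IsLocalRing A] [IsLocalRing B]
  [IsNoetherianRing B] [Module.Flat A B] [DTen.HasLBase (algebraMap A B)]

/-- If a flat local map preserves a dualizing complex, its closed fibre is Gorenstein. -/
theorem gorenstein_closed_fibre {ω : Dual.D A} (hω : Dual.IsDualizing A ω)
    (hW : Dual.IsDualizing B ((DTen.LBase (algebraMap A B)).obj ω))
    (hle : (maximalIdeal A).map (algebraMap A B) ≤ maximalIdeal B) :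
    LocCoh.IsGorensteinLocalRing (B ⧸ (maximalIdeal A).map (algebraMap A B)) := by
  haveI := hω.isNoetherianRing
  haveI := hasLTen A
  haveI := hasRHom (A := A)
  haveI := hasLTen B
  haveI := hasRHom (A := B)
  let W := (DTen.LBase (algebraMap A B)).obj ω
  let J := (maximalIdeal A).map (algebraMap A B)
  let F := B ⧸ J
  haveI : Nontrivial F := Ideal.Quotient.nontrivial_iff.2 (ne_top_of_le_ne_top (maximalIdeal.isMaximal B).ne_top hle)
  haveI : IsLocalRing F := .of_surjective' (Ideal.Quotient.mk J) Ideal.Quotient.mk_surjective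
  haveI := hasLTen F
  haveI := hasRHom (A := F)
  obtain ⟨n, hvan, ⟨hd⟩⟩ := exists_unique_ext_point (maximalIdeal A) hω
  obtain ⟨a, b, -, _, _⟩ := exists_bounds_of_isDualizing hω
  haveI := isGE_LBase_flat (B := B) ω a
  obtain ⟨eJ⟩ := nonempty_LBase_inD_quotient (B := B) (maximalIdeal A)
  have hpc := (Groth.Agent.S6942.result A 0 ω (A ⧸ maximalIdeal A)).2.2 inferInstance
  have hEvan : ∀ i : ℤ, i ≠ n → Subsingleton (Dual.inD B F ⟶ W⟦i⟧) := fun i hi => by
    obtain ⟨e⟩ := exists_homBaseChangeLEquiv (B := B) (X := Dual.inD A (A ⧸ maximalIdeal A))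
      (Y := ω) hpc a i
    haveI := hvan i hi
    haveI := e.injective.subsingleton
    exact eJ.homFromEquiv.symm.subsingleton
  obtain ⟨eF⟩ : Nonempty ((Dual.inD B F ⟶ W⟦n⟧) ≃ₗ[B] F) := by
    obtain ⟨e⟩ := exists_homBaseChangeLEquiv (B := B) (X := Dual.inD A (A ⧸ maximalIdeal A))
      (Y := ω) hpc a n
    exact ⟨(Linear.homCongr B eJ.symm (Iso.refl _)).trans (e.trans
      ((TensorProduct.AlgebraTensorModule.congr (LinearEquiv.refl B B) hd).trans
        (Algebra.TensorProduct.quotIdealMapEquivTensorQuot B (maximalIdeal A)).symm.toLinearEquiv))⟩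
  obtain ⟨R, ⟨adj⟩⟩ := exists_shriek (algebraMap B F)
  let RW := R.obj W
  have hsurj : Function.Surjective (algebraMap B F) := Ideal.Quotient.mk_surjective
  haveI : Module.Finite B F := Module.Finite.of_surjective (Algebra.linearMap B F) hsurj
  let eFres : (DRing.restrictD (algebraMap B F)).obj (Dual.inD F F) ≅ Dual.inD B F :=
    H9Misc.DRingRestrict.restrictInDIso (algebraMap B F) (ModuleCat.of F F) ≪≫
      (DerivedCategory.singleFunctor (ModuleCat.{u} B) 0).mapIso
        (LinearEquiv.ofBijective
          ({ toFun := fun x => x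
             map_add' := fun _ _ => rfl
             map_smul' := fun r (x : F) => (Algebra.smul_def r x).symm } :
            ((ModuleCat.restrictScalars (algebraMap B F)).obj (ModuleCat.of F F) : Type u) →ₗ[B] F)
          Function.bijective_id).toModuleIso
  have key : ∀ i : ℤ, ∃ e : Dual.HD F RW i ≃ (Dual.inD B F ⟶ W⟦i⟧),
      (∀ x y, e (x + y) = e x + e y) ∧ ∀ r x, e (algebraMap B F r • x) = r • e x := by
    intro i
    obtain ⟨e₁⟩ := exists_homRingLEquiv RW i
    obtain ⟨e₂, hadd, hsmul⟩ := exists_shriekHomEquiv (algebraMap B F) R adj (Dual.inD F F) W i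
    let c := Linear.homCongr B eFres (Iso.refl (W⟦i⟧))
    exact ⟨e₁.symm.toEquiv.trans (e₂.trans c.toEquiv),
      fun x y => (congrArg (fun z => c (e₂ z)) (map_add e₁.symm x y)).trans
        ((congrArg c (hadd _ _)).trans (map_add c _ _)),
      fun r x => (congrArg (fun z => c (e₂ z)) (map_smul e₁.symm (algebraMap B F r) x)).trans
        ((congrArg c (hsmul r _)).trans (map_smul c r _))⟩
  have hz : ∀ i : ℤ, i ≠ n → IsZero ((DerivedCategory.homologyFunctor (ModuleCat.{u} F) i).obj RW) :=
    fun i hi => by
      obtain ⟨e, -, -⟩ := key i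
      haveI := hEvan i hi
      exact @ModuleCat.isZero_of_subsingleton _ _ _ e.subsingleton
  obtain ⟨en⟩ : Nonempty (Dual.HD F RW n ≃ₗ[F] F) := by
    obtain ⟨e, hadd, hsmul⟩ := key n
    exact ⟨{ (e.trans eF.toEquiv) with
      map_add' := fun x y => by simp [hadd]
      map_smul' := fun r x => by
        obtain ⟨s, rfl⟩ := hsurj r
        change eF (e (algebraMap B F s • x)) = algebraMap B F s • eF (e x)
        rw [hsmul, map_smul]
        exact Algebra.smul_def s (eF (e x)) }⟩
  haveI : RW.IsGE n := (DerivedCategory.isGE_iff _ _).2 fun i hi => hz i (by omega)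
  haveI : RW.IsLE n := (DerivedCategory.isLE_iff _ _).2 fun i hi => hz i (by omega)
  obtain ⟨e₁⟩ := H9Misc.nonempty_iso_single_homology n RW
  let eRW : (Dual.inD F F)⟦-n⟧ ≅ RW :=
    ((DerivedCategory.singleFunctors (ModuleCat.{u} F)).shiftIso (-n) n 0 (by omega)).app (ModuleCat.of F F) ≪≫
      (DerivedCategory.singleFunctor (ModuleCat.{u} F) n).mapIso en.symm.toModuleIso ≪≫ e₁.symm
  have hsh := isDualizing_shift (isDualizing_of_iso eRW.symm (isDualizing_shriek R adj hW)) n
  exact (Groth.Agent.LC.gorenstein_iff_isDualizing F).2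
    (isDualizing_of_iso ((shiftFunctorCompIsoId (Dual.D F) (-n) n (by omega)).app (Dual.inD F F)) hsh)

end Local

variable {A : Type u} [CommRing A] [IsLocalRing A] [IsNoetherianRing A]

/-- Formal fibres of a local ring with a dualizing complex are Gorenstein. -/
theorem gorenstein_formalFibre {ω : Dual.D A} (hω : Dual.IsDualizing A ω) (p : Ideal A) [p.IsPrime] :
    LocCoh.IsGorensteinRing (EGA4.formalFibre A p) := by
  haveI := FlatLoc6.isLocalRing_cpl A
  haveI := FlatLoc6.isNoetherianRing_cpl A
  haveI := FlatLoc6.faithfullyFlat_cpl A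
  let B := EGA4.Cpl A
  refine LC.fiber_of_fibLoc p fun q hq hqp => ?_
  subst hqp
  let p' := q.comap (algebraMap A B)
  let A' := Localization.AtPrime p'
  let B' := Localization.AtPrime q
  let ψ : A' →+* B' := Localization.localRingHom p' q (algebraMap A B) rfl
  letI : Algebra A' B' := ψ.toAlgebra
  have hcomp : (algebraMap A' B').comp (algebraMap A A') = algebraMap A B' := by
    refine RingHom.ext fun x => ?_
    change Localization.localRingHom p' q (algebraMap A B) rfl (algebraMap A A' x) = _
    rw [Localization.localRingHom_to_map]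
    exact (IsScalarTower.algebraMap_apply A B B' x).symm
  haveI : IsScalarTower A A' B' := IsScalarTower.of_algebraMap_eq fun x => (RingHom.congr_fun hcomp x).symm
  haveI : IsNoetherianRing B' := IsLocalization.isNoetherianRing q.primeCompl _ inferInstance
  haveI : IsNoetherianRing A' := IsLocalization.isNoetherianRing p'.primeCompl _ inferInstance
  haveI : Module.Flat B B' := IsLocalization.flat _ q.primeCompl
  haveI : Module.Flat A B' := Module.Flat.trans A B B'
  haveI : Module.Flat A' B' := (Module.flat_iff_of_isLocalization A' p'.primeCompl B').2 inferInstance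
  haveI : Module.Flat A A' := IsLocalization.flat _ p'.primeCompl
  haveI := hasLBase (algebraMap A A')
  haveI := hasLBase (algebraMap A' B')
  haveI := hasLBase (algebraMap A B')
  haveI := hasLBase (algebraMap A B)
  haveI := hasLBase (algebraMap B B')
  have hA' : Dual.IsDualizing A' ((DTen.LBase (algebraMap A A')).obj ω) :=
    isDualizing_LBase hω fun m _ => ⟨m.comap (algebraMap A A'), IsLocalization.map_comap p'.primeCompl A' m⟩
  have hB : Dual.IsDualizing B ((DTen.LBase (algebraMap A B)).obj ω) :=
    isDualizing_LBase hω fun m hm => ⟨maximalIdeal A, by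
      rw [IsLocalRing.eq_maximalIdeal hm]
      exact AdicCompletion.maximalIdeal_eq_map.symm⟩
  have hB' : Dual.IsDualizing B' ((DTen.LBase (algebraMap B B')).obj ((DTen.LBase (algebraMap A B)).obj ω)) :=
    isDualizing_LBase hB fun m _ => ⟨m.comap (algebraMap B B'), IsLocalization.map_comap q.primeCompl B' m⟩
  obtain ⟨c₁⟩ := nonempty_LBase_comp (algebraMap A A') (algebraMap A' B') (algebraMap A B') hcomp
  obtain ⟨c₂⟩ := nonempty_LBase_comp (algebraMap A B) (algebraMap B B') (algebraMap A B')
    (IsScalarTower.algebraMap_eq A B B').symm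
  have h := gorenstein_closed_fibre (B := B') hA' (isDualizing_of_iso ((c₂ ≪≫ c₁.symm).app ω) hB')
    (((IsLocalRing.local_hom_TFAE (algebraMap A' B')).out 0 2).1 (Localization.isLocalHom_localRingHom _ _ _ rfl))
  have hmap : (maximalIdeal A').map (algebraMap A' B') = p'.map (algebraMap A B') := by
    rw [← Localization.AtPrime.map_eq_maximalIdeal (I := p'), Ideal.map_map, hcomp]
  rw [hmap] at h
  exact h

theorem hasCMFormalFibres {ω : Dual.D A} (hω : Dual.IsDualizing A ω) : EGA4.HasCMFormalFibres A := fun p _ => by
  haveI := gorenstein_formalFibre hω p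
  exact LC.Liaison.isCohenMacaulayRing_of_gorenstein _

/-- The local rings of a ring with a dualizing complex have Cohen–Macaulay formal fibres. -/
theorem hasCMFormalFibres_localization {R : Type u} [CommRing R] [IsNoetherianRing R] {ω : Dual.D R}
    (hω : Dual.IsDualizing R ω) (q : Ideal R) [q.IsPrime] :
    EGA4.HasCMFormalFibres (Localization.AtPrime q) := by
  haveI : IsNoetherianRing (Localization.AtPrime q) := IsLocalization.isNoetherianRing q.primeCompl _ inferInstance
  haveI : Module.Flat R (Localization.AtPrime q) := IsLocalization.flat _ q.primeCompl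
  haveI := hasLBase (algebraMap R (Localization.AtPrime q))
  exact hasCMFormalFibres (isDualizing_LBase hω fun m _ =>
    ⟨m.comap (algebraMap R (Localization.AtPrime q)), IsLocalization.map_comap q.primeCompl _ m⟩)

end Groth.Agent.GrLib8.Bootstrap
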