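import Groth.Agent.GrLib8.Bootstrap.Depth
import Groth.Agent.KFlatLib.Ring.DualizingFibreRows

/-!
# Depth conditions on completions
-/

set_option autoImplicit false
set_option linter.style.haveILetI false

universe u

open IsLocalRing CategoryTheory
open scoped TensorProduct

namespace Groth.Agent.GrLib8.Bootstrap

variable (R : Type u) [CommRing R] [IsLocalRing R] [IsNoetherianRing R] (J : Ideal R)
  (M : Type u) [AddCommGroup M] [Module R M] [Module.Finite R M]

theorem lt_depth_of_isolated (hJ : J ≤ maximalIdeal R) (P₀ : Ideal R) [P₀.IsPrime]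
    (hP₀ : ∀ Q : Ideal R, Q.IsPrime → P₀ ≤ Q → J ≤ Q → Q = maximalIdeal R) (hne : ¬ J ≤ P₀) (s : ℕ)
    (h6 : ∀ P : PrimeSpectrum (AdicCompletion J R), ¬ J.map (algebraMap R (AdicCompletion J R)) ≤ P.asIdeal →
      (∀ Q : PrimeSpectrum (AdicCompletion J R), P ≤ Q → J.map (algebraMap R (AdicCompletion J R)) ≤ Q.asIdeal →
        Q.asIdeal.IsMaximal) →
      (s : ℕ∞) < LocCoh.depth (Localization.AtPrime P.asIdeal) (LocalizedModule P.asIdeal.primeCompl (AdicCompletion J M))) :
    (s : ℕ∞) < LocCoh.depth (Localization.AtPrime P₀) (LocalizedModule P₀.primeCompl M) := by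
  haveI := FormalFib6.isNoetherianRing_adicCompletion R J
  haveI := flat_completion R J
  have hmM : ((maximalIdeal R).map (algebraMap R (AdicCompletion J R))).IsMaximal :=
    AdicCompletion.isMaximal_map_of_le J _ hJ (IsNoetherian.noetherian _)
  obtain ⟨P, hP, -, hPc, -, hP0⟩ := FlatLoc6.exists_fib_zero_le (A := R)
    ((maximalIdeal R).map (algebraMap R (AdicCompletion J R))) P₀
    ((le_maximalIdeal (Ideal.IsPrime.ne_top inferInstance)).trans Ideal.le_comap_map)
  have h := h6 ⟨P, hP⟩ (fun hle => hne ((Ideal.map_le_iff_le_comap.1 hle).trans hPc.le)) fun Q hPQ hJQ => by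
    have h1 : Q.asIdeal.comap (algebraMap R (AdicCompletion J R)) = maximalIdeal R :=
      hP₀ _ inferInstance (hPc.ge.trans (Ideal.comap_mono hPQ)) (Ideal.map_le_iff_le_comap.1 hJQ)
    have h2 := hmM.eq_of_le Q.2.ne_top (Ideal.map_le_iff_le_comap.2 h1.ge)
    exact h2 ▸ hmM
  rw [depth_completion, hP0, add_zero] at h
  have key : ∀ (x : Ideal R) [x.IsPrime], x = P₀ →
      LocCoh.depth (Localization.AtPrime x) (LocalizedModule x.primeCompl M) =
        LocCoh.depth (Localization.AtPrime P₀) (LocalizedModule P₀.primeCompl M) := by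
    intro x _ hx
    subst hx
    rfl
  exact h.trans_eq (key _ hPc)

/-- Dimension is at most the cohomological dimension. -/
theorem qd_le_of_cdLE {B : Type u} [CommRing B] [IsLocalRing B] [IsNoetherianRing B] (K P : Ideal B) [P.IsPrime]
    (d : ℕ) (hK : K ≤ maximalIdeal B) (hcd : LocCoh.CdLE B K d)
    (h : ∀ Q : Ideal B, Q.IsPrime → P ≤ Q → K ≤ Q → Q = maximalIdeal B) : FormCat.qd B P ≤ d := by
  let π := Ideal.Quotient.mk P
  have hs : Function.Surjective π := Ideal.Quotient.mk_surjective
  haveI : IsLocalRing (B ⧸ P) := .of_surjective' π hs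
  have h1 : LocCoh.CdLE (B ⧸ P) (K.map (algebraMap B (B ⧸ P))) d := LC.cdLE_map (R := B) (I := K) (B ⧸ P) hcd
  have hrad : (K.map (algebraMap B (B ⧸ P))).radical = (maximalIdeal (B ⧸ P)).radical := by
    rw [(maximalIdeal.isMaximal (B ⧸ P)).isPrime.radical]
    have hle : K.map (algebraMap B (B ⧸ P)) ≤ maximalIdeal (B ⧸ P) :=
      le_maximalIdeal fun ht => (maximalIdeal.isMaximal B).ne_top (top_le_iff.1 (by
        have h2 : (⊤ : Ideal (B ⧸ P)).comap π ≤ maximalIdeal B := by
          rw [← ht]
          show (K.map π).comap π ≤ _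
          rw [Ideal.comap_map_of_surjective _ hs, ← RingHom.ker_eq_comap_bot, Ideal.mk_ker]
          exact sup_le hK (le_maximalIdeal (Ideal.IsPrime.ne_top inferInstance))
        rwa [Ideal.comap_top] at h2))
    refine le_antisymm ((maximalIdeal.isMaximal (B ⧸ P)).isPrime.radical_le_iff.2 hle) ?_
    rw [Ideal.radical_eq_sInf]
    refine le_sInf fun Q hQ => ?_
    haveI := hQ.2
    have h2 := h (Q.comap π) inferInstance
      (fun x hx => by show π x ∈ Q; rw [Ideal.Quotient.eq_zero_iff_mem.2 hx]; exact Q.zero_mem)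
      (Ideal.map_le_iff_le_comap.1 hQ.1)
    rw [← Ideal.map_comap_of_surjective π hs Q, h2]
    exact (IsLocalRing.map_maximalIdeal_of_surjective π hs).ge
  have h2 : LocCoh.CdLE (B ⧸ P) (maximalIdeal (B ⧸ P)) d := LC.cdLE_of_radical_eq hrad h1
  have hd := FormCat.coe_qd B P (Ideal.IsPrime.ne_top inferInstance)
  rw [← Module.supportDim_self_eq_ringKrullDim] at hd
  have h3 := (LC.nontrivial_and_not_finite_H (R := B ⧸ P) (FormCat.qd B P) (B ⧸ P) hd).1
  by_contra hlt
  exact not_subsingleton_iff_nontrivial.2 h3 (h2 (B ⧸ P) (FormCat.qd B P) (by omega))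

theorem lt_depth_completion (hR : CAlg.IsUniversallyCatenary R) (hF : EGA4.HasCMFormalFibres R)
    (hJ : J ≤ maximalIdeal R) (d : ℕ) (hcd : LocCoh.CdLE R J d) (s : ℕ) (P : Ideal (AdicCompletion J R)) [P.IsPrime]
    (hmax : ∀ Q : PrimeSpectrum (AdicCompletion J R), P ≤ Q.asIdeal →
      J.map (algebraMap R (AdicCompletion J R)) ≤ Q.asIdeal → Q.asIdeal.IsMaximal)
    (hc : (s : ℕ∞) < LocCoh.depth (Localization.AtPrime (P.comap (algebraMap R (AdicCompletion J R))))
        (LocalizedModule (P.comap (algebraMap R (AdicCompletion J R))).primeCompl M) ∨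
      ((d + s : ℕ) : ℕ∞) < LocCoh.depth (Localization.AtPrime (P.comap (algebraMap R (AdicCompletion J R))))
        (LocalizedModule (P.comap (algebraMap R (AdicCompletion J R))).primeCompl M) +
          (FormCat.qd R (P.comap (algebraMap R (AdicCompletion J R))) : ℕ∞)) :
    (s : ℕ∞) < LocCoh.depth (Localization.AtPrime P) (LocalizedModule P.primeCompl (AdicCompletion J M)) := by
  rw [depth_completion]
  rcases hc with hc | hc
  · exact hc.trans_le le_self_add
  let A' := AdicCompletion J R
  haveI := FormalFib6.isNoetherianRing_adicCompletion R J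
  haveI := flat_completion R J
  let C := EGA4.Cpl R
  haveI := FlatLoc6.isLocalRing_cpl R
  haveI := FlatLoc6.isNoetherianRing_cpl R
  haveI := FlatLoc6.faithfullyFlat_cpl R
  haveI := FormCat.isAdicComplete_cpl R
  obtain ⟨_, _, _⟩ := exists_toCpl R J hJ
  obtain ⟨Qt, hQt⟩ := PrimeSpectrum.comap_surjective_of_faithfullyFlat (A := A') (B := C) ⟨P, ‹_›⟩
  have hQt' : Qt.asIdeal.comap (algebraMap A' C) = P := congrArg PrimeSpectrum.asIdeal hQt
  obtain ⟨P'', hP'', -, hPc, -, hP0⟩ := FlatLoc6.exists_fib_zero_le (A := A') Qt.asIdeal P hQt'.ge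
  have hfib : LocCoh.depth (Localization.AtPrime (P.comap (algebraMap R A')))
        (LocalizedModule (P.comap (algebraMap R A')).primeCompl M) + FlatLoc6.fibDepth R P'' C ≤
      LocCoh.depth (Localization.AtPrime (P.comap (algebraMap R A')))
        (LocalizedModule (P.comap (algebraMap R A')).primeCompl M) + FlatLoc6.fibDepth R P A' := by
    have h1 := depth_loc_congr (TensorProduct.AlgebraTensorModule.cancelBaseChange R A' C C M) P''
    rw [depth_tensor (R := A') (A' ⊗[R] M) P'', hP0, add_zero, depth_tensor M P''] at h1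
    have key1 : ∀ (x : Ideal A') [x.IsPrime], x = P →
        LocCoh.depth (Localization.AtPrime x) (LocalizedModule x.primeCompl (A' ⊗[R] M)) =
          LocCoh.depth (Localization.AtPrime P) (LocalizedModule P.primeCompl (A' ⊗[R] M)) := by
      intro x _ hx
      subst hx
      rfl
    rw [key1 _ hPc, depth_tensor M P] at h1
    have key2 : ∀ (x : Ideal R) [x.IsPrime], x = P.comap (algebraMap R A') →
        LocCoh.depth (Localization.AtPrime x) (LocalizedModule x.primeCompl M) =
          LocCoh.depth (Localization.AtPrime (P.comap (algebraMap R A')))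
            (LocalizedModule (P.comap (algebraMap R A')).primeCompl M) := by
      intro x _ hx
      subst hx
      rfl
    rw [key2 (P''.comap (algebraMap R C)) (by rw [← hPc, Ideal.comap_comap, ← IsScalarTower.algebraMap_eq])] at h1
    exact h1.ge
  -- the numbers
  have hPR : P''.comap (algebraMap R C) = P.comap (algebraMap R A') := by
    rw [← hPc, Ideal.comap_comap, ← IsScalarTower.algebraMap_eq]
  have hd : FormCat.qd C P'' ≤ d := by
    refine qd_le_of_cdLE (J.map (algebraMap R C)) P'' d ?_ (LC.cdLE_map (R := R) (I := J) C hcd) fun Q hQ hPQ hJQ => ?_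
    · rw [AdicCompletion.maximalIdeal_eq_map]
      exact Ideal.map_mono hJ
    have h1 := hmax ⟨Q.comap (algebraMap A' C), inferInstance⟩ (hPc.ge.trans (Ideal.comap_mono hPQ)) (by
      refine Ideal.map_le_iff_le_comap.2 ?_
      rw [Ideal.comap_comap, ← IsScalarTower.algebraMap_eq]
      exact Ideal.map_le_iff_le_comap.1 hJQ)
    have h2 : (maximalIdeal R).map (algebraMap R A') ≤ Q.comap (algebraMap A' C) := by
      have hmM : ((maximalIdeal R).map (algebraMap R A')).IsMaximal :=
        AdicCompletion.isMaximal_map_of_le J _ hJ (IsNoetherian.noetherian _)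
      have h3 : (maximalIdeal C).comap (algebraMap A' C) = (maximalIdeal R).map (algebraMap R A') := by
        refine (hmM.eq_of_le (Ideal.IsPrime.ne_top inferInstance) ?_).symm
        rw [Ideal.map_le_iff_le_comap, Ideal.comap_comap, ← IsScalarTower.algebraMap_eq, AdicCompletion.maximalIdeal_eq_map]
        exact Ideal.le_comap_map
      rw [← h3, ← h1.eq_of_le (Ideal.IsPrime.ne_top inferInstance) (Ideal.comap_mono (le_maximalIdeal hQ.ne_top))]
    refine le_antisymm (le_maximalIdeal hQ.ne_top) ?_
    rw [AdicCompletion.maximalIdeal_eq_map, Ideal.map_le_iff_le_comap,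
      IsScalarTower.algebraMap_eq R A' C, ← Ideal.comap_comap]
    exact Ideal.map_le_iff_le_comap.1 h2
  obtain ⟨Pm, hPm, hPmle⟩ := Ideal.exists_minimalPrimes_le (J := P'')
    (Ideal.map_comap_le : (P''.comap (algebraMap R C)).map (algebraMap R C) ≤ P'')
  haveI := hPm.1.1
  obtain ⟨t, ht, hqt⟩ := Cutoff.height_map_mk_eq_qd Pm P'' hPmle
  have hqm := Cutoff.qd_minimal_eq R hR (P''.comap (algebraMap R C)) Pm hPm
  have hfd := Cutoff.height_map_mk_le_fibDim (A := R) Pm P'' hPmle hPm.1.2
  rw [ht] at hfd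
  have hSn := FlatLoc6.fib_le_of_fiber_hasSk t (P''.comap (algebraMap R C)) P'' rfl
    (Cutoff.hasSn_of_CM hF t (P''.comap (algebraMap R C)))
  have htf : (t : ℕ∞) ≤ FlatLoc6.fibDepth R P'' C := by
    rcases min_le_iff.1 hSn with h | h
    · exact WithBot.coe_le_coe.1 h
    · exact WithBot.coe_le_coe.1 (hfd.trans h)
  have hq : FormCat.qd R (P.comap (algebraMap R A')) = FormCat.qd C P'' + t := by
    have h0 : FormCat.qd R (P.comap (algebraMap R A')) = FormCat.qd R (P''.comap (algebraMap R C)) := by rw [hPR]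
    rw [h0, ← hqm]
    exact hqt
  rw [hq] at hc
  generalize hδ : LocCoh.depth (Localization.AtPrime (P.comap (algebraMap R A')))
      (LocalizedModule (P.comap (algebraMap R A')).primeCompl M) = δ at hc hfib ⊢
  induction δ using ENat.recTopCoe with
  | top => exact lt_of_lt_of_le (ENat.natCast_lt_top s) le_self_add
  | coe a =>
    have h1 : d + s < a + (FormCat.qd C P'' + t) := by exact_mod_cast hc
    have h2 : ((s : ℕ∞)) < (a : ℕ∞) + (t : ℕ∞) := by exact_mod_cast (show s < a + t by omega)
    exact h2.trans_le (le_trans (add_le_add le_rfl htf) hfib)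

end Groth.Agent.GrLib8.Bootstrap
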