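import Groth.Agent.GrLib8.Bootstrap.Local

/-!
# The bootstrap conditions
-/

set_option autoImplicit false
set_option linter.style.haveILetI false

universe u

open IsLocalRing CategoryTheory
open scoped TensorProduct

attribute [local instance] HasDerivedCategory.standard

namespace Groth.Agent.GrLib8.Bootstrap

variable {A : Type u} [CommRing A] [IsNoetherianRing A] (I : Ideal A) (M : Type u) [AddCommGroup M] [Module A M]
  [Module.Finite A M]

/-- The depth condition on the completed local ring at `q`. -/
def H6 (s : ℕ) (q : PrimeSpectrum A) : Prop :=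
  ∀ p' : PrimeSpectrum (AdicCompletion (I.map (algebraMap A (Localization.AtPrime q.asIdeal))) (Localization.AtPrime q.asIdeal)),
    ¬ (I.map (algebraMap A (AdicCompletion (I.map (algebraMap A (Localization.AtPrime q.asIdeal))) (Localization.AtPrime q.asIdeal)))) ≤ p'.asIdeal →
    (∀ q' : PrimeSpectrum (AdicCompletion (I.map (algebraMap A (Localization.AtPrime q.asIdeal))) (Localization.AtPrime q.asIdeal)), p' ≤ q' →
      (I.map (algebraMap A (AdicCompletion (I.map (algebraMap A (Localization.AtPrime q.asIdeal))) (Localization.AtPrime q.asIdeal)))) ≤ q'.asIdeal → q'.asIdeal.IsMaximal) →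
    (s : ℕ∞) < LocCoh.depth (Localization.AtPrime p'.asIdeal) (LocalizedModule p'.asIdeal.primeCompl
      (AdicCompletion (I.map (algebraMap A (Localization.AtPrime q.asIdeal))) (LocalizedModule q.asIdeal.primeCompl M)))

theorem map_map_completion (q : PrimeSpectrum A) :
    I.map (algebraMap A (AdicCompletion (I.map (algebraMap A (Localization.AtPrime q.asIdeal))) (Localization.AtPrime q.asIdeal))) =
      (I.map (algebraMap A (Localization.AtPrime q.asIdeal))).map (algebraMap (Localization.AtPrime q.asIdeal)
        (AdicCompletion (I.map (algebraMap A (Localization.AtPrime q.asIdeal))) (Localization.AtPrime q.asIdeal))) := by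
  rw [Ideal.map_map, ← IsScalarTower.algebraMap_eq]

theorem depth_loc_eq (q : PrimeSpectrum A) (P : Ideal (Localization.AtPrime q.asIdeal)) [P.IsPrime]
    (p : Ideal A) [p.IsPrime] (h : P.comap (algebraMap A (Localization.AtPrime q.asIdeal)) = p) :
    LocCoh.depth (Localization.AtPrime P) (LocalizedModule P.primeCompl (LocalizedModule q.asIdeal.primeCompl M)) =
      LocCoh.depth (Localization.AtPrime p) (LocalizedModule p.primeCompl M) := by
  subst h
  exact Groth.Agent.Alg6.depth_locLoc q.asIdeal.primeCompl M P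

theorem lt_depth_of_no_between (T : Set (PrimeSpectrum A)) (s : ℕ) (h6 : ∀ q ∈ T, H6 I M s q)
    (p q : PrimeSpectrum A) (hpq : p ≤ q) (hp : ¬ I ≤ p.asIdeal) (hq : I ≤ q.asIdeal)
    (hr : ∀ r : PrimeSpectrum A, p ≤ r → r ≤ q → I ≤ r.asIdeal → r ∈ T) :
    (s : ℕ∞) < LocCoh.depth (Localization.AtPrime p.asIdeal) (LocalizedModule p.asIdeal.primeCompl M) := by
  obtain ⟨r, hrmin, hrq⟩ := Ideal.exists_minimalPrimes_le (sup_le hq hpq : I ⊔ p.asIdeal ≤ q.asIdeal)
  haveI hrp : r.IsPrime := hrmin.1.1
  have hIr : I ≤ r := le_sup_left.trans hrmin.1.2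
  have hpr : p.asIdeal ≤ r := le_sup_right.trans hrmin.1.2
  let r' : PrimeSpectrum A := ⟨r, hrp⟩
  have h := h6 r' (hr r' hpr hrq hIr)
  let R := Localization.AtPrime r
  haveI : IsNoetherianRing R := IsLocalization.isNoetherianRing r.primeCompl _ inferInstance
  haveI : Module.Finite R (LocalizedModule r.primeCompl M) :=
    Module.Finite.of_isLocalizedModule r.primeCompl (LocalizedModule.mkLinearMap _ M)
  have hdisj : Disjoint (r.primeCompl : Set A) (p.asIdeal : Set A) :=
    Set.disjoint_left.2 fun x hx hxs => hx (hpr hxs)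
  haveI := IsLocalization.isPrime_of_isPrime_disjoint r.primeCompl R p.asIdeal inferInstance hdisj
  have hc : (p.asIdeal.map (algebraMap A R)).comap (algebraMap A R) = p.asIdeal :=
    IsLocalization.comap_map_of_isPrime_disjoint r.primeCompl R inferInstance hdisj
  have hJ : I.map (algebraMap A R) ≤ maximalIdeal R :=
    (Ideal.map_mono hIr).trans Localization.AtPrime.map_eq_maximalIdeal.le
  have h1 := lt_depth_of_isolated R (I.map (algebraMap A R)) (LocalizedModule r.primeCompl M) hJ
    (p.asIdeal.map (algebraMap A R)) (fun Q hQ h1 h2 => ?_)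
    (fun hle => hp (by rw [← hc]; exact Ideal.map_le_iff_le_comap.1 hle)) s
    (fun P hP hPQ => h P (by rw [map_map_completion]; exact hP) (fun Q h1 h2 => hPQ Q h1 (by
      rw [← map_map_completion I r']; exact h2)))
  · exact h1.trans_eq (depth_loc_eq M r' _ p.asIdeal hc)
  · have hle : Q.comap (algebraMap A R) ≤ r := by
      refine (Ideal.comap_mono (le_maximalIdeal hQ.ne_top)).trans (le_of_eq ?_)
      exact Localization.AtPrime.comap_maximalIdeal (I := r)
    have heq : Q.comap (algebraMap A R) = r := le_antisymm hle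
      (hrmin.2 ⟨hQ.comap _, sup_le (Ideal.map_le_iff_le_comap.1 h2) (Ideal.map_le_iff_le_comap.1 h1)⟩ hle)
    exact (IsLocalization.map_comap r.primeCompl R Q).symm.trans
      ((congrArg (Ideal.map (algebraMap A R)) heq).trans Localization.AtPrime.map_eq_maximalIdeal)

theorem h6_of_depth_bound {ω : Dual.D A} (hω : Dual.IsDualizing A ω) (d : ℕ) (hcd : LocCoh.CdLE A I d) (s : ℕ)
    (q : PrimeSpectrum A) (hq : I ≤ q.asIdeal)
    (hc : ∀ p : PrimeSpectrum A, p ≤ q → ¬ I ≤ p.asIdeal →
      (s : ℕ∞) < LocCoh.depth (Localization.AtPrime p.asIdeal) (LocalizedModule p.asIdeal.primeCompl M) ∨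
        (((d + s : ℕ) : ℕ∞) : WithBot ℕ∞) < ((LocCoh.depth (Localization.AtPrime p.asIdeal)
          (LocalizedModule p.asIdeal.primeCompl M) : ℕ∞) : WithBot ℕ∞) + Formal2.dimBetween A p.asIdeal q.asIdeal) :
    H6 I M s q := by
  intro P hP hmax
  let R := Localization.AtPrime q.asIdeal
  haveI : IsNoetherianRing R := IsLocalization.isNoetherianRing q.asIdeal.primeCompl _ inferInstance
  haveI : Module.Finite R (LocalizedModule q.asIdeal.primeCompl M) :=
    Module.Finite.of_isLocalizedModule q.asIdeal.primeCompl (LocalizedModule.mkLinearMap _ M)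
  rw [map_map_completion] at hP
  let J := I.map (algebraMap A R)
  refine lt_depth_completion R J (LocalizedModule q.asIdeal.primeCompl M)
    (DimFormula.isUniversallyCatenary_localization (KFlatLib.isUniversallyCatenary_of_isDualizing hω) q.asIdeal.primeCompl R)
    (hasCMFormalFibres_localization hω q.asIdeal)
    ((Ideal.map_mono hq).trans Localization.AtPrime.map_eq_maximalIdeal.le) d (LC.cdLE_map (R := A) (I := I) R hcd) s
    P.asIdeal (fun Q h1 h2 => hmax Q h1 (by rw [map_map_completion]; exact h2)) ?_
  let P₀ := P.asIdeal.comap (algebraMap R (AdicCompletion J R))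
  let p : PrimeSpectrum A := ⟨P₀.comap (algebraMap A R), inferInstance⟩
  have hpq : p ≤ q := (Ideal.comap_mono (le_maximalIdeal (Ideal.IsPrime.ne_top inferInstance))).trans
    (le_of_eq (Localization.AtPrime.comap_maximalIdeal (I := q.asIdeal)))
  have hp : ¬ I ≤ p.asIdeal := fun hle => hP
    (Ideal.map_le_iff_le_comap.2 (Ideal.map_le_iff_le_comap.2 hle))
  have hdep := depth_loc_eq M q P₀ p.asIdeal rfl
  rcases hc p hpq hp with h | h
  · exact Or.inl (h.trans_eq hdep.symm)
  · right
    rw [Formal2.dimBetween, show p.asIdeal.map (algebraMap A R) = P₀ from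
      IsLocalization.map_comap q.asIdeal.primeCompl R P₀,
      FormCat.coe_qd R P₀ (Ideal.IsPrime.ne_top inferInstance), ← hdep] at h
    exact WithBot.coe_lt_coe.1 h

end Groth.Agent.GrLib8.Bootstrap
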